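import Groth.Agent.Pur21.K172.Tools
import Groth.Agent.Ega4dA.PurityGeom
import Groth.Agent.Ega4dB.CDivUFD

/-!
# The core of purity under condition (W)
-/

set_option autoImplicit false
universe u
open CategoryTheory CategoryTheory.Limits AlgebraicGeometry TopologicalSpace

namespace K172.Core

open K172.Tools Groth.Agent.Ega4dA.PurityGeom Groth.Agent.Ega4dB.CDivUFD

/-- Condition (W) on the local ring of `Y` at `y`. -/
def CondW (Y : Scheme.{u}) (y : Y) : Prop :=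
  ∀ U : (Spec (Y.presheaf.stalk y)).Opens, ∀ hU : U ≤ FEt.puncturedSpec ↑(Y.presheaf.stalk y),
    (∀ T ∈ irreducibleComponents ↥(FEt.puncturedSpec ↑(Y.presheaf.stalk y)),
      ¬ Subtype.val '' T ⊆ (U : Set _)) →
    IsAffineHom ((Spec (Y.presheaf.stalk y)).homOfLE hU) → IsAffineOpen U

variable {X Y : Scheme.{u}} [IsLocallyNoetherian X] [IsLocallyNoetherian Y] (g : X ⟶ Y)

/-- The finitely many points of `G` over the generic points of the components of the punctured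
spectrum. -/
theorem finite_generic (y : Y) (G : X.Opens) (hinj : ∀ a ∈ G, ∀ b ∈ G, g a = g b → a = b) :
    {ξ : X | ξ ∈ G ∧ ∃ T ∈ irreducibleComponents ↥(FEt.puncturedSpec ↑(Y.presheaf.stalk y)),
      ∃ t : ↥(FEt.puncturedSpec ↑(Y.presheaf.stalk y)), closure {t} = T ∧
        g ξ = Y.fromSpecStalk y t.1}.Finite := by
  have h0 : NoetherianSpace ↥(Spec (Y.presheaf.stalk y)) :=
    inferInstanceAs (NoetherianSpace (PrimeSpectrum (Y.presheaf.stalk y)))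
  have h00 : NoetherianSpace ↥(FEt.puncturedSpec ↑(Y.presheaf.stalk y)) :=
    Topology.IsInducing.subtypeVal.noetherianSpace
  have h1 : (irreducibleComponents ↥(FEt.puncturedSpec ↑(Y.presheaf.stalk y))).Finite :=
    NoetherianSpace.finite_irreducibleComponents
  have h2 : {ξ : X | ξ ∈ G ∧ ∃ T ∈ irreducibleComponents ↥(FEt.puncturedSpec ↑(Y.presheaf.stalk y)),
      ∃ t : ↥(FEt.puncturedSpec ↑(Y.presheaf.stalk y)), closure {t} = T ∧
        g ξ = Y.fromSpecStalk y t.1} =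
      ⋃ T ∈ irreducibleComponents ↥(FEt.puncturedSpec ↑(Y.presheaf.stalk y)),
        {ξ : X | ξ ∈ G ∧ ∃ t : ↥(FEt.puncturedSpec ↑(Y.presheaf.stalk y)), closure {t} = T ∧
          g ξ = Y.fromSpecStalk y t.1} := by
    ext ξ
    simp only [Set.mem_setOf_eq, Set.mem_iUnion, exists_prop]
    constructor
    · rintro ⟨a, T, hT, t, b⟩
      exact ⟨T, hT, a, t, b⟩
    · rintro ⟨T, hT, a, t, b⟩
      exact ⟨a, T, hT, t, b⟩
  rw [h2]
  refine h1.biUnion fun T _ => Set.Subsingleton.finite ?_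
  rintro a ⟨ha, t, ht, hat⟩ b ⟨hb, t', ht', hbt⟩
  have h3 : t = t' := (inseparable_iff_closure_eq.mpr (ht.trans ht'.symm)).eq
  subst h3
  exact hinj a ha b hb (hat.trans hbt.symm)

theorem core (z : X) (hW : CondW Y (g z)) (X₁ : X.Opens) (hz : z ∈ X₁) (G : X.Opens)
    (hG : ∀ x ∈ X₁, x ∈ G ↔ ¬ z ⤳ x) (hGle : G ≤ X₁) [IsOpenImmersion (G.ι ≫ g)]
    (hGy : ∀ x ∈ G, g x ≠ g z)
    (hiso : ∀ O : X.Opens, z ∈ O → ∃ z₁ ∈ O, g z₁ = g z ∧ z₁ ≠ z) :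
    ringKrullDim (X.presheaf.stalk z) ≤ 1 := by
  classical
  have hinj : ∀ a ∈ G, ∀ b ∈ G, g a = g b → a = b := by
    intro a ha b hb hab
    have h1 : (G.ι ≫ g) ⟨a, ha⟩ = (G.ι ≫ g) ⟨b, hb⟩ := by
      rw [Scheme.Hom.comp_apply, Scheme.Hom.comp_apply]
      exact hab
    exact congrArg Subtype.val ((G.ι ≫ g).isOpenEmbedding.injective h1)
  -- the affine open neighbourhoods
  obtain ⟨_, ⟨W, hWa, rfl⟩, hyW, -⟩ :=
    Y.isBasis_affineOpens.exists_subset_of_mem_open (Set.mem_univ (g z)) isOpen_univ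
  have hWa : IsAffineOpen W := hWa
  have hyW : g z ∈ W := hyW
  let Ξ := {ξ : X | ξ ∈ G ∧ ∃ T ∈ irreducibleComponents ↥(FEt.puncturedSpec ↑(Y.presheaf.stalk (g z))),
      ∃ t : ↥(FEt.puncturedSpec ↑(Y.presheaf.stalk (g z))), closure {t} = T ∧
        g ξ = Y.fromSpecStalk (g z) t.1}
  have hΞ : Ξ.Finite := finite_generic g (g z) G hinj
  let C : Set X := ⋃ ξ ∈ {ξ | ξ ∈ Ξ ∧ ¬ ξ ⤳ z}, closure {ξ}
  have hC : IsClosed C := (hΞ.subset fun ξ h => h.1).isClosed_biUnion fun _ _ => isClosed_closure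
  have hzC : z ∉ C := by
    intro h
    obtain ⟨ξ, hξ, hz⟩ := Set.mem_iUnion₂.mp h
    exact hξ.2 (specializes_iff_mem_closure.mpr hz)
  obtain ⟨_, ⟨V₂, hV₂, rfl⟩, hzV₂, hV₂le⟩ :=
    X.isBasis_affineOpens.exists_subset_of_mem_open
      (show z ∈ (((X₁ ⊓ g ⁻¹ᵁ W) ⊓ ⟨Cᶜ, hC.isOpen_compl⟩ : X.Opens) : Set X) from ⟨⟨hz, hyW⟩, hzC⟩)
      (Opens.isOpen _)
  have hV₂ : IsAffineOpen V₂ := hV₂
  have hzV₂ : z ∈ V₂ := hzV₂
  have hV₂X₁ : V₂ ≤ X₁ := fun x hx => (hV₂le hx).1.1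
  have hV₂W : V₂ ≤ g ⁻¹ᵁ W := fun x hx => (hV₂le hx).1.2
  have hV₂C : ∀ x ∈ V₂, x ∉ C := fun x hx => (hV₂le hx).2
  obtain ⟨z₁, hz₁V₂, hz₁y, hz₁z⟩ := hiso V₂ hzV₂
  have hzz₁ : z ⤳ z₁ := by
    by_contra h
    exact hGy z₁ ((hG z₁ (hV₂X₁ hz₁V₂)).mpr h) hz₁y
  have hnz : ¬ (hV₂.primeIdealOf ⟨z₁, hz₁V₂⟩).asIdeal ≤ (hV₂.primeIdealOf ⟨z, hzV₂⟩).asIdeal := by
    rw [← le_iff_specializes hV₂ z₁ z hz₁V₂ hzV₂]
    exact fun h => hz₁z (h.antisymm hzz₁).eq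
  obtain ⟨f, hf₁, hfz⟩ := SetLike.not_le_iff_exists.mp hnz
  let V₃ : X.Opens := X.basicOpen f
  have hV₃ : IsAffineOpen V₃ := hV₂.basicOpen f
  have hV₃le : V₃ ≤ V₂ := X.basicOpen_le f
  have hzV₃ : z ∈ V₃ := (mem_basicOpen_iff hV₂ z hzV₂ f).mpr hfz
  -- the open of `Y`
  let j : (G : Scheme.{u}) ⟶ Y := G.ι ≫ g
  have hj : ∀ x : ↥(G : Scheme.{u}), j x = g x.1 := fun x => Scheme.Hom.comp_apply _ _ _
  let UY : Y.Opens := j ''ᵁ (G.ι ⁻¹ᵁ V₃)
  have hmemUY : ∀ v : Y, v ∈ UY ↔ ∃ x ∈ G, x ∈ V₃ ∧ g x = v := by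
    intro v
    constructor
    · rintro ⟨x, hx, rfl⟩
      exact ⟨x.1, x.2, hx, (hj x).symm⟩
    · rintro ⟨x, hxG, hx, rfl⟩
      exact ⟨⟨x, hxG⟩, hx, hj ⟨x, hxG⟩⟩
  let q := Y.fromSpecStalk (g z)
  let U : (Spec (Y.presheaf.stalk (g z))).Opens := q ⁻¹ᵁ UY
  have hmemU : ∀ t, t ∈ U ↔ ∃ x ∈ G, x ∈ V₃ ∧ g x = q t := fun t => hmemUY (q t)
  have hU : U ≤ FEt.puncturedSpec ↑(Y.presheaf.stalk (g z)) := by
    intro t ht
    obtain ⟨x, hxG, -, hx⟩ := (hmemU t).mp ht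
    rw [mem_puncturedSpec_iff]
    intro h
    exact hGy x hxG (hx.trans h)
  -- no component of the punctured spectrum is contained in `U`
  have claimA : ∀ T ∈ irreducibleComponents ↥(FEt.puncturedSpec ↑(Y.presheaf.stalk (g z))),
      ¬ Subtype.val '' T ⊆ (U : Set _) := by
    intro T hT hTU
    have hTcl : IsClosed T := isClosed_of_mem_irreducibleComponents T hT
    have hTirr : IsIrreducible T := hT.1
    have hqs : QuasiSober ↥(FEt.puncturedSpec ↑(Y.presheaf.stalk (g z))) :=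
      (FEt.puncturedSpec ↑(Y.presheaf.stalk (g z))).isOpenEmbedding.quasiSober
    obtain ⟨t, ht⟩ := QuasiSober.sober hTirr hTcl
    have htT : t ∈ T := ht.mem
    have htU : t.1 ∈ U := hTU ⟨t, htT, rfl⟩
    obtain ⟨ξ, hξG, hξV₃, hξ⟩ := (hmemU t.1).mp htU
    have hξΞ : ξ ∈ Ξ := ⟨hξG, T, hT, t, ht, hξ⟩
    have hξz : ξ ⤳ z := by
      by_contra h
      exact hV₂C ξ (hV₃le hξV₃) (Set.mem_iUnion₂.mpr ⟨ξ, ⟨hξΞ, h⟩, subset_closure rfl⟩)
    have hξne : ¬ z ⤳ ξ := (hG ξ (hGle hξG)).mp hξG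
    have hNoeth : IsNoetherianRing Γ(X, V₂) := IsLocallyNoetherian.component_noetherian ⟨V₂, hV₂⟩
    obtain ⟨w, hwp, hw1, hw2, hw3, hw4⟩ := exists_prime
      (hV₂.primeIdealOf ⟨ξ, hV₃le hξV₃⟩).asIdeal (hV₂.primeIdealOf ⟨z, hzV₂⟩).asIdeal
      (hV₂.primeIdealOf ⟨z₁, hz₁V₂⟩).asIdeal
      (lt_of_le_not_ge ((le_iff_specializes hV₂ ξ z _ _).mp hξz)
        (fun h => hξne ((le_iff_specializes hV₂ z ξ _ _).mpr h)))
      ((le_iff_specializes hV₂ z z₁ _ _).mp hzz₁) f hf₁ hfz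
    let w' : X := hV₂.fromSpec ⟨w, hwp⟩
    have hw'V₂ : w' ∈ V₂ := fromSpec_mem hV₂ _
    have hpw' : hV₂.primeIdealOf ⟨w', hw'V₂⟩ = ⟨w, hwp⟩ := primeIdealOf_fromSpec hV₂ _ hw'V₂
    have h1 : ξ ⤳ w' := by
      rw [le_iff_specializes hV₂ ξ w' (hV₃le hξV₃) hw'V₂, hpw']
      exact hw1
    have h2 : w' ⤳ z₁ := by
      rw [le_iff_specializes hV₂ w' z₁ hw'V₂ hz₁V₂, hpw']
      exact hw2
    have h3 : ¬ z ⤳ w' := by
      rw [le_iff_specializes hV₂ z w' hzV₂ hw'V₂, hpw']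
      exact hw4
    have h4 : w' ∉ V₃ := by
      intro h
      have := (mem_basicOpen_iff hV₂ w' hw'V₂ f).mp h
      rw [hpw'] at this
      exact this hw3
    have hw'G : w' ∈ G := (hG w' (hV₂X₁ hw'V₂)).mpr h3
    have h5 : g w' ⤳ g z := by
      rw [← hz₁y]
      exact h2.map g.continuous
    obtain ⟨t', ht'⟩ := mem_range_fromSpecStalk h5
    have ht'P : t' ∈ FEt.puncturedSpec ↑(Y.presheaf.stalk (g z)) := by
      rw [mem_puncturedSpec_iff, ht']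
      exact hGy w' hw'G
    have h6 : t.1 ⤳ t' := by
      rw [← specializes_iff, ht', ← hξ]
      exact h1.map g.continuous
    have h7 : (⟨t', ht'P⟩ : ↥(FEt.puncturedSpec ↑(Y.presheaf.stalk (g z)))) ∈ T := by
      have h8 : t ⤳ (⟨t', ht'P⟩ : ↥(FEt.puncturedSpec ↑(Y.presheaf.stalk (g z)))) :=
        Topology.IsInducing.subtypeVal.specializes_iff.mp h6
      exact h8.mem_closed hTcl htT
    obtain ⟨w'', hw''G, hw''V₃, hw''⟩ := (hmemU t').mp (hTU ⟨_, h7, rfl⟩)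
    have h9 : w'' = w' := hinj _ hw''G _ hw'G (hw''.trans ht')
    rw [h9] at hw''V₃
    exact h4 hw''V₃
  -- the inclusion of `U` is affine
  have claimB : IsAffineHom ((Spec (Y.presheaf.stalk (g z))).homOfLE hU) := by
    apply isAffineHom_homOfLE
    intro t ht
    have h1 : q t ≠ g z := (mem_puncturedSpec_iff t).mp ht
    have h2 : q t ⤳ g z := fromSpecStalk_specializes t
    have hqW : q t ∈ W := h2.mem_open W.2 hyW
    have h3 : ¬ (hWa.primeIdealOf ⟨g z, hyW⟩).asIdeal ≤ (hWa.primeIdealOf ⟨q t, hqW⟩).asIdeal := by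
      rw [← le_iff_specializes hWa (g z) (q t) hyW hqW]
      exact fun h => h1 (h2.antisymm h).eq
    obtain ⟨a, ha, hat⟩ := SetLike.not_le_iff_exists.mp h3
    have hD : IsAffineOpen (Y.basicOpen a) := hWa.basicOpen a
    have hDle : Y.basicOpen a ≤ W := Y.basicOpen_le a
    have hyD : g z ∉ Y.basicOpen a := fun h => (mem_basicOpen_iff hWa (g z) hyW a).mp h ha
    refine ⟨q ⁻¹ᵁ Y.basicOpen a, (mem_basicOpen_iff hWa (q t) hqW a).mpr hat, ?_,
      isAffineOpen_preimage hWa hyW hD hDle, ?_⟩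
    · intro s hs
      rw [mem_puncturedSpec_iff]
      intro h
      exact hyD (h ▸ hs)
    have e : V₃ ≤ g ⁻¹ᵁ W := hV₃le.trans hV₂W
    let O : X.Opens := V₃ ⊓ g ⁻¹ᵁ (Y.basicOpen a)
    have hO : IsAffineOpen O := by
      have h4 : O = X.basicOpen (g.appLE W V₃ e a) := (Scheme.basicOpen_appLE g V₃ W e a).symm
      rw [h4]
      exact hV₃.basicOpen _
    have hOG : O ≤ G := by
      intro x hx
      rw [hG x (hV₂X₁ (hV₃le hx.1))]
      intro h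
      exact hyD ((h.map g.continuous).mem_open (Y.basicOpen a).2 hx.2)
    have h5 : U ⊓ q ⁻¹ᵁ Y.basicOpen a = q ⁻¹ᵁ (j ''ᵁ (G.ι ⁻¹ᵁ O)) := by
      ext s
      constructor
      · rintro ⟨hs1, hs2⟩
        obtain ⟨x, hxG, hxV, hx⟩ := (hmemU s).mp hs1
        refine ⟨⟨x, hxG⟩, ⟨hxV, ?_⟩, ?_⟩
        · change g x ∈ Y.basicOpen a
          rw [hx]
          exact hs2
        · exact (hj ⟨x, hxG⟩).trans hx
      · rintro ⟨x, hx, hxs⟩
        have hxs : g x.1 = q s := (hj x).symm.trans hxs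
        have hx1 : x.1 ∈ V₃ := hx.1
        have hx2 : g x.1 ∈ Y.basicOpen a := hx.2
        refine ⟨(hmemU s).mpr ⟨x.1, x.2, hx1, hxs⟩, ?_⟩
        change q s ∈ Y.basicOpen a
        rw [← hxs]
        exact hx2
    rw [h5]
    refine isAffineOpen_preimage hWa hyW ?_ ?_
    · exact (hO.preimage_of_isOpenImmersion _
        (by rw [Scheme.Opens.opensRange_ι]; exact hOG)).image_of_isOpenImmersion _
    · rintro v ⟨x, hx, rfl⟩
      have hx2 : g x.1 ∈ Y.basicOpen a := hx.2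
      exact hDle ((hj x).symm ▸ hx2)
  have hUaff := hW U hU claimA claimB
  apply dim_le_one_of_isAffineOpen z
  have h1 : FEt.puncturedSpec (X.presheaf.stalk z) = Spec.map (g.stalkMap z) ⁻¹ᵁ U := by
    ext s
    have h2 : q (Spec.map (g.stalkMap z) s) = g (X.fromSpecStalk z s) := by
      rw [← Scheme.Hom.comp_apply, ← Scheme.Hom.comp_apply, Scheme.SpecMap_stalkMap_fromSpecStalk]
    change s ∈ FEt.puncturedSpec (X.presheaf.stalk z) ↔ Spec.map (g.stalkMap z) s ∈ U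
    rw [hmemU, h2, mem_puncturedSpec_iff]
    have h3 : X.fromSpecStalk z s ⤳ z := fromSpecStalk_specializes s
    constructor
    · intro hne
      refine ⟨X.fromSpecStalk z s, (hG _ (h3.mem_open X₁.2 hz)).mpr fun h => ?_,
        h3.mem_open V₃.2 hzV₃, rfl⟩
      exact hne (h3.antisymm h).eq
    · rintro ⟨x, hxG, -, hx⟩ h
      exact hGy x hxG (by rw [hx, h])
  rw [h1]
  exact hUaff.preimage _

end K172.Core
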