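import Groth.Agent.Pur21.K172.Core
import Groth.Agent.Ega4dA.LocalIsoAux

/-!
# Neighbourhoods of maximal points of closed subsets; injectivity of separated local isomorphisms
-/

set_option autoImplicit false
universe u
open CategoryTheory CategoryTheory.Limits AlgebraicGeometry TopologicalSpace

namespace K172.Nhd

open K172.Tools Groth.Agent.Ega4dA.PurityGeom Groth.Agent.Ega4dB.CDivUFD

variable {X Y : Scheme.{u}}

/-- Near a maximal point `z` of a closed subset `F`, the closed subset is the closure of `z`. -/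
theorem exists_nhd_closure [IsLocallyNoetherian X] {F : Set X} (hF : IsClosed F) {z : X}
    (hz : z ∈ F) (hmax : ∀ z' ∈ F, z' ⤳ z → z' = z) :
    ∃ X₁ : X.Opens, z ∈ X₁ ∧ ∀ x ∈ X₁, x ∈ F → z ⤳ x := by
  classical
  obtain ⟨_, ⟨V, hV, rfl⟩, hzV, -⟩ :=
    X.isBasis_affineOpens.exists_subset_of_mem_open (Set.mem_univ z) isOpen_univ
  have hV : IsAffineOpen V := hV
  have hzV : z ∈ V := hzV
  have : IsNoetherianRing Γ(X, V) := IsLocallyNoetherian.component_noetherian ⟨V, hV⟩
  have hN : NoetherianSpace V := noetherianSpace_of_isAffineOpen V hV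
  let C : Set V := {y | y.1 ∈ F}
  have hC : IsClosed C := hF.preimage continuous_subtype_val
  have hqV : QuasiSober V := (V.isOpenEmbedding).quasiSober
  have hqC : QuasiSober C := hC.isClosedEmbedding_subtypeVal.quasiSober
  have hNC : NoetherianSpace C := inferInstance
  have hfin : (irreducibleComponents C).Finite := NoetherianSpace.finite_irreducibleComponents
  have hinj : Set.InjOn (fun t : C => closure ({t} : Set C))
      ((fun t : C => closure ({t} : Set C)) ⁻¹' irreducibleComponents C) := by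
    intro a _ b _ hab
    exact (inseparable_iff_closure_eq.mpr hab).eq
  have h1 := (hfin.preimage hinj).image (fun t : C => (t.1.1 : X))
  let B : Set X := {c | c ∈ (fun t : C => (t.1.1 : X)) ''
    ((fun t : C => closure ({t} : Set C)) ⁻¹' irreducibleComponents C) ∧ ¬ c ⤳ z}
  have hB : B.Finite := h1.subset fun c hc => hc.1
  let K : Set X := ⋃ c ∈ B, closure {c}
  have hK : IsClosed K := hB.isClosed_biUnion fun _ _ => isClosed_closure
  refine ⟨V ⊓ ⟨Kᶜ, hK.isOpen_compl⟩, ⟨hzV, ?_⟩, ?_⟩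
  · intro h
    obtain ⟨c, hc, hzc⟩ := Set.mem_iUnion₂.mp h
    exact hc.2 (specializes_iff_mem_closure.mpr hzc)
  · rintro x ⟨hxV, hxK⟩ hxF
    let x' : C := ⟨⟨x, hxV⟩, hxF⟩
    have h2 : IsIrreducible (irreducibleComponent x') := isIrreducible_irreducibleComponent
    obtain ⟨c, hc⟩ := QuasiSober.sober h2 isClosed_irreducibleComponent
    have hcx : c ⤳ x' := hc.specializes mem_irreducibleComponent
    have hcx' : c.1.1 ⤳ x := (hcx.map continuous_subtype_val).map continuous_subtype_val
    by_cases hcz : c.1.1 ⤳ z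
    · have h3 := hmax c.1.1 c.2 hcz
      rw [← h3]
      exact hcx'
    · exfalso
      apply hxK
      refine Set.mem_iUnion₂.mpr ⟨c.1.1, ⟨⟨c, ?_, rfl⟩, hcz⟩, specializes_iff_mem_closure.mp hcx'⟩
      change closure {c} ∈ irreducibleComponents C
      rw [hc.def]
      exact irreducibleComponent_mem_irreducibleComponents x'

/-- Two morphisms over a separated one which agree on a dominant source agree at all points. -/
theorem apply_eq_of_isDominant {W Z : Scheme.{u}} {f g : X ⟶ Y} (s : Y ⟶ Z) [IsSeparated s]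
    (h : f ≫ s = g ≫ s) (ι : W ⟶ X) [IsDominant ι] (hU : ι ≫ f = ι ≫ g) (x : X) :
    f x = g x := by
  let X' : Over Z := Over.mk (f ≫ s)
  let Y' : Over Z := Over.mk s
  let U' : Over Z := Over.mk (ι ≫ f ≫ s)
  let f' : X' ⟶ Y' := Over.homMk f
  let g' : X' ⟶ Y' := Over.homMk g
  let ι' : U' ⟶ X' := Over.homMk ι
  have : IsSeparated Y'.hom := ‹_›
  have : IsDominant (equalizer.ι f' g').left := by
    apply +allowSynthFailures IsDominant.of_comp (equalizer.lift ι' ?_).left
    · rwa [← Over.comp_left, equalizer.lift_ι]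
    · ext1; exact hU
  have : Surjective (equalizer.ι f' g').left :=
    surjective_of_isDominant_of_isClosed_range _ (Scheme.Hom.isClosedEmbedding _).isClosed_range
  obtain ⟨y, rfl⟩ := (equalizer.ι f' g').left.surjective x
  have h2 : (equalizer.ι f' g').left ≫ f = (equalizer.ι f' g').left ≫ g :=
    congr($(equalizer.condition f' g').left)
  rw [← Scheme.Hom.comp_apply, ← Scheme.Hom.comp_apply, h2]

/-- A separated local isomorphism with irreducible source is injective. -/
theorem injective_of_isLocalIso (g : X ⟶ Y) [PreirreducibleSpace X] [IsLocalIso g]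
    [IsSeparated g] : Function.Injective g := by
  intro x1 x2 hx
  obtain ⟨W1, hW1, hj1⟩ := IsLocalIso.exists_isOpenImmersion (f := g) x1
  obtain ⟨W2, hW2, hj2⟩ := IsLocalIso.exists_isOpenImmersion (f := g) x2
  obtain ⟨z, hz1, hz2⟩ := Scheme.Pullback.exists_preimage_pullback (f := W1.ι ≫ g) (g := W2.ι ≫ g)
    ⟨x1, hW1⟩ ⟨x2, hW2⟩ (by simpa using hx)
  have hirrW : PreirreducibleSpace W1 := by
    have := (PreirreducibleSpace.isPreirreducible_univ (X := X)).open_subset W1.2
      (Set.subset_univ (W1 : Set X))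
    exact Subtype.preirreducibleSpace this
  have hirr : PreirreducibleSpace ↥(pullback (W1.ι ≫ g) (W2.ι ≫ g)) :=
    (pullback.fst (W1.ι ≫ g) (W2.ι ≫ g)).isOpenEmbedding.preirreducibleSpace
  let d : ((W1 ⊓ W2 : X.Opens) : Scheme.{u}) ⟶ pullback (W1.ι ≫ g) (W2.ι ≫ g) :=
    pullback.lift (X.homOfLE inf_le_left) (X.homOfLE inf_le_right) (by simp)
  have hd1 : d ≫ pullback.fst (W1.ι ≫ g) (W2.ι ≫ g) = X.homOfLE inf_le_left :=
    pullback.lift_fst _ _ _
  have hd2 : d ≫ pullback.snd (W1.ι ≫ g) (W2.ι ≫ g) = X.homOfLE inf_le_right :=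
    pullback.lift_snd _ _ _
  have hdo : IsOpenImmersion d := by
    have : IsOpenImmersion (d ≫ pullback.fst (W1.ι ≫ g) (W2.ι ≫ g)) := by
      rw [hd1]; infer_instance
    exact IsOpenImmersion.of_comp d (pullback.fst (W1.ι ≫ g) (W2.ι ≫ g))
  have hne12 : Nonempty ↥((W1 ⊓ W2 : X.Opens) : Scheme.{u}) := by
    have := nonempty_preirreducible_inter W1.isOpen W2.isOpen ⟨x1, hW1⟩ ⟨x2, hW2⟩
    obtain ⟨w, hw⟩ := this
    exact ⟨⟨w, hw⟩⟩
  have hdom : IsDominant d := by
    constructor
    obtain ⟨w⟩ := hne12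
    exact d.isOpenEmbedding.isOpen_range.dense ⟨d w, w, rfl⟩
  have heq := apply_eq_of_isDominant (f := pullback.fst (W1.ι ≫ g) (W2.ι ≫ g) ≫ W1.ι)
    (g := pullback.snd (W1.ι ≫ g) (W2.ι ≫ g) ≫ W2.ι) g (by
      simpa using pullback.condition) d (by
      rw [reassoc_of% hd1, reassoc_of% hd2]; simp) z
  have h1 : (pullback.fst (W1.ι ≫ g) (W2.ι ≫ g) ≫ W1.ι) z = x1 := by
    rw [Scheme.Hom.comp_apply, hz1]; rfl
  have h2 : (pullback.snd (W1.ι ≫ g) (W2.ι ≫ g) ≫ W2.ι) z = x2 := by
    rw [Scheme.Hom.comp_apply, hz2]; rfl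
  rw [← h1, ← h2, heq]

/-- A generization in the same fibre at which `g` is a local isomorphism is trivial. -/
theorem eq_of_isIso_stalkMap (g : X ⟶ Y) {x z : X} (h : x ⤳ z) (hg : g x = g z)
    [IsIso (g.stalkMap x)] : x = z := by
  by_contra hne
  have hzx : ¬ z ⤳ x := fun h' => hne (h.antisymm h').eq
  obtain ⟨_, ⟨V, hV, rfl⟩, hzV, -⟩ :=
    X.isBasis_affineOpens.exists_subset_of_mem_open (Set.mem_univ z) isOpen_univ
  have hV : IsAffineOpen V := hV
  have hzV : z ∈ V := hzV
  have hxV : x ∈ V := h.mem_open V.2 hzV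
  rw [le_iff_specializes hV z x hzV hxV] at hzx
  obtain ⟨f, hfz, hfx⟩ := SetLike.not_le_iff_exists.mp hzx
  have h1 : x ∈ X.basicOpen f := (mem_basicOpen_iff hV x hxV f).mpr hfx
  have h2 : z ∉ X.basicOpen f := fun h => (mem_basicOpen_iff hV z hzV f).mp h hfz
  rw [X.mem_basicOpen f x hxV] at h1
  rw [X.mem_basicOpen f z hzV] at h2
  have hsurj : Function.Surjective (X.presheaf.stalkSpecializes h) := by
    have h3 : IsIso (Y.presheaf.stalkSpecializes (h.map g.continuous)) :=
      (Y.presheaf.stalkCongr (.of_eq hg.symm)).isIso_hom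
    have h4 : IsIso (g.stalkMap z ≫ X.presheaf.stalkSpecializes h) := by
      rw [← Scheme.Hom.stalkSpecializes_stalkMap]
      infer_instance
    intro b
    obtain ⟨a, ha⟩ := (ConcreteCategory.bijective_of_isIso
      (g.stalkMap z ≫ X.presheaf.stalkSpecializes h)).2 b
    exact ⟨g.stalkMap z a, ha⟩
  obtain ⟨b, hb⟩ := hsurj h1.unit⁻¹.val
  have h4 : X.presheaf.stalkSpecializes h (X.presheaf.germ V z hzV f * b - 1) = 0 := by
    rw [map_sub, map_mul, map_one, hb]
    have h5 : X.presheaf.stalkSpecializes h (X.presheaf.germ V z hzV f) =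
      X.presheaf.germ V x hxV f := TopCat.Presheaf.germ_stalkSpecializes_apply X.presheaf hzV h f
    rw [h5, IsUnit.mul_val_inv, sub_self]
  have h6 : IsUnit (X.presheaf.germ V z hzV f * b - 1) := by
    have h7 : X.presheaf.germ V z hzV f * b ∈ IsLocalRing.maximalIdeal (X.presheaf.stalk z) :=
      Ideal.mul_mem_right _ _ ((IsLocalRing.mem_maximalIdeal _).mpr h2)
    have h8 := IsLocalRing.isUnit_one_sub_self_of_mem_nonunits _ h7
    rw [← neg_sub]
    exact h8.neg
  have h9 := h6.map (X.presheaf.stalkSpecializes h).hom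
  have h10 : (X.presheaf.stalkSpecializes h).hom (X.presheaf.germ V z hzV f * b - 1) = 0 := h4
  rw [h10] at h9
  exact not_isUnit_zero h9

end K172.Nhd
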