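import Mathlib.RingTheory.Ideal.KrullsHeightTheorem
import Mathlib.RingTheory.Spectrum.Prime.Noetherian
import Groth.Agent.S2851
import Groth.Prelude.Def_FEt

/-!
# Auxiliary results for purity under condition (W)
-/

set_option autoImplicit false
universe u
open CategoryTheory CategoryTheory.Limits AlgebraicGeometry TopologicalSpace

namespace K172.Tools

/-- A prime between `p` and `r` containing `f` but not `q`. -/
theorem exists_prime {B : Type*} [CommRing B] [IsNoetherianRing B] (p q r : Ideal B) [p.IsPrime]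
    [q.IsPrime] [r.IsPrime] (hpq : p < q) (hqr : q ≤ r) (f : B) (hf : f ∈ r) (hfq : f ∉ q) :
    ∃ w : Ideal B, w.IsPrime ∧ p ≤ w ∧ w ≤ r ∧ f ∈ w ∧ ¬ q ≤ w := by
  have hI : p ⊔ Ideal.span {f} ≤ r :=
    sup_le (hpq.le.trans hqr) ((Ideal.span_singleton_le_iff_mem _).mpr hf)
  obtain ⟨w, hw, hwr⟩ := Ideal.exists_minimalPrimes_le hI
  have hwp : w.IsPrime := hw.1.1
  have hpw : p ≤ w := le_sup_left.trans hw.1.2
  have hfw : f ∈ w := hw.1.2 (Ideal.mem_sup_right (Ideal.mem_span_singleton_self f))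
  refine ⟨w, hwp, hpw, hwr, hfw, fun hqw => ?_⟩
  have h1 := Ideal.map_height_le_one_of_mem_minimalPrimes hw
  have hqw' : q < w := lt_of_le_of_ne hqw (fun h => hfq (h ▸ hfw))
  let π := Ideal.Quotient.mk p
  have hker : RingHom.ker π = p := Ideal.mk_ker
  have hq' : (q.map π).IsPrime := Ideal.map_isPrime_of_surjective Ideal.Quotient.mk_surjective
    (by rw [hker]; exact hpq.le)
  have hw' : (w.map π).IsPrime := Ideal.map_isPrime_of_surjective Ideal.Quotient.mk_surjective
    (by rw [hker]; exact hpw)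
  have hcomap : ∀ J : Ideal B, p ≤ J → (J.map π).comap π = J := by
    intro J hJ
    rw [Ideal.comap_map_of_surjective π Ideal.Quotient.mk_surjective, ← RingHom.ker_eq_comap_bot,
      hker, sup_eq_left.mpr hJ]
  have hlt1 : (⊥ : Ideal (B ⧸ p)) < q.map π := by
    refine bot_lt_iff_ne_bot.mpr fun h => hpq.ne ?_
    have h2 := hcomap q hpq.le
    rw [h, ← RingHom.ker_eq_comap_bot, hker] at h2
    exact h2
  have hlt2 : q.map π < w.map π := by
    refine lt_of_le_of_ne (Ideal.map_mono hqw) fun h => hqw'.ne ?_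
    rw [← hcomap q hpq.le, ← hcomap w hpw, h]
  have h2 := Ideal.height_strict_mono_of_isPrime (I := ⊥) hlt1
  have h3 := Ideal.height_strict_mono_of_isPrime hlt2
  have h4 : (1 : ℕ∞) ≤ (q.map π).height := Order.one_le_iff_pos.mpr (pos_of_gt h2)
  exact absurd h1 (not_le.mpr (h4.trans_lt h3))

variable {X : Scheme.{u}}

theorem mem_range_fromSpecStalk {x y : X} (h : y ⤳ x) : ∃ t, X.fromSpecStalk x t = y := by
  have : y ∈ Set.range (X.fromSpecStalk x) := by
    rw [Scheme.range_fromSpecStalk]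
    exact h
  exact this

theorem fromSpecStalk_specializes {x : X} (t : Spec (X.presheaf.stalk x)) :
    X.fromSpecStalk x t ⤳ x := by
  have : X.fromSpecStalk x t ∈ Set.range (X.fromSpecStalk x) := ⟨t, rfl⟩
  rw [Scheme.range_fromSpecStalk] at this
  exact this

theorem specializes_iff {x : X} (s t : Spec (X.presheaf.stalk x)) :
    X.fromSpecStalk x s ⤳ X.fromSpecStalk x t ↔ s ⤳ t :=
  (X.fromSpecStalk x).isEmbedding.isInducing.specializes_iff

theorem fromSpecStalk_injective (x : X) : Function.Injective (X.fromSpecStalk x) :=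
  (X.fromSpecStalk x).isEmbedding.injective

theorem eq_closedPoint_iff {x : X} (t : Spec (X.presheaf.stalk x)) :
    X.fromSpecStalk x t = x ↔ t = IsLocalRing.closedPoint (X.presheaf.stalk x) := by
  constructor
  · intro h
    apply fromSpecStalk_injective x
    rw [h]
    exact Scheme.fromSpecStalk_closedPoint.symm
  · rintro rfl
    exact Scheme.fromSpecStalk_closedPoint

theorem mem_puncturedSpec_iff {x : X} (t : Spec (X.presheaf.stalk x)) :
    t ∈ FEt.puncturedSpec (X.presheaf.stalk x) ↔ X.fromSpecStalk x t ≠ x := by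
  rw [Ne, eq_closedPoint_iff]
  rfl

/-- The preimage of an affine open contained in an affine open neighbourhood of `x` is affine. -/
theorem isAffineOpen_preimage {x : X} {W : X.Opens} (hW : IsAffineOpen W) (hx : x ∈ W)
    {O : X.Opens} (hO : IsAffineOpen O) (hOW : O ≤ W) : IsAffineOpen (X.fromSpecStalk x ⁻¹ᵁ O) := by
  rw [← hW.fromSpecStalk_eq_fromSpecStalk hx, IsAffineOpen.fromSpecStalk]
  have h1 : IsAffineOpen (hW.fromSpec ⁻¹ᵁ O) := by
    apply hO.preimage_of_isOpenImmersion
    rwa [hW.opensRange_fromSpec]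
  exact h1.preimage _

/-- Criterion for an inclusion of opens to be affine. -/
theorem isAffineHom_homOfLE {U V : X.Opens} (h : U ≤ V)
    (H : ∀ x ∈ V, ∃ D : X.Opens, x ∈ D ∧ D ≤ V ∧ IsAffineOpen D ∧ IsAffineOpen (U ⊓ D)) :
    IsAffineHom (X.homOfLE h) := by
  apply isAffineHom_of_forall_exists_isAffineOpen
  rintro ⟨x, hx⟩
  obtain ⟨D, hxD, hDV, hD, hUD⟩ := H x hx
  refine ⟨V.ι ⁻¹ᵁ D, hxD, hD.preimage_of_isOpenImmersion _ (by rwa [Scheme.Opens.opensRange_ι]), ?_⟩
  have h1 : X.homOfLE h ⁻¹ᵁ (V.ι ⁻¹ᵁ D) = U.ι ⁻¹ᵁ (U ⊓ D) := by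
    rw [← Scheme.Hom.comp_preimage, Scheme.homOfLE_ι]
    ext y
    exact ⟨fun h => ⟨y.2, h⟩, fun h => h.2⟩
  rw [h1]
  exact hUD.preimage_of_isOpenImmersion _ (by rw [Scheme.Opens.opensRange_ι]; exact inf_le_left)

/-- A local ring whose punctured spectrum is affine has dimension at most one. -/
theorem dim_le_one_of_isAffineOpen (x : X) [IsLocallyNoetherian X]
    (h : IsAffineOpen (X := Spec (X.presheaf.stalk x)) (FEt.puncturedSpec (X.presheaf.stalk x))) :
    ringKrullDim (X.presheaf.stalk x) ≤ 1 := by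
  let c : Spec (X.presheaf.stalk x) := IsLocalRing.closedPoint (X.presheaf.stalk x)
  let U : (Spec (X.presheaf.stalk x)).Opens := FEt.puncturedSpec (X.presheaf.stalk x)
  have hU : IsAffine (U : Scheme.{u}) := h
  have h1 : IsAffineHom U.ι := inferInstance
  have h2 := Groth.Agent.S2851.result (Spec (X.presheaf.stalk x)) U c (fun h => h rfl)
    (fun η hη _ => by
      by_contra hne
      exact hη hne)
  rw [← ringKrullDim_eq_of_ringEquiv
    (stalkClosedPointIso (X.presheaf.stalk x)).commRingCatIsoToRingEquiv]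
  exact h2

end K172.Tools
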